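import Cfsg.Agent.EqLemmas
import Cfsg.Agent.Lib.NatSL2.Basic
import Cfsg.Agent.Lib.SL2Natural.Basic

/-!
# A natural `SL₂` whose normaliser contains a Sylow subgroup: the local structure

`Emb p G F`: a faithful linear group `G` on `F²` (over the prime field) containing the image of `SL₂(F)`
in its natural action, with a Sylow `p`-subgroup `P` of `G` containing the root group `U` and normalising
the image.
* `mem_U_iff`: `U` is the stabiliser of the series `0 < W < F²`
* `Theta`: `P / U` embeds in the automorphism group of `F`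
* `mem_U_of_quad`: for odd `p` the quadratic elements of `P` lie in `U`
-/

set_option autoImplicit false
set_option linter.unusedSectionVars false
set_option linter.style.haveILetI false

namespace Cfsg.Agent.NatEmbedded

open Matrix QdOver

local notation "V2" F => Fin 2 → F

/-- The data. -/
structure Emb (p : ℕ) (G : Type*) [Group G] (F : Type*) [Field F] where
  φ : G →* AddMonoid.End (V2 F)
  inj : Function.Injective φ
  ι : SpecialLinearGroup (Fin 2) F →* G
  act : ∀ s v, φ (ι s) v = s.1 *ᵥ v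
  P : Sylow p G
  P_le : (P : Subgroup G) ≤ Subgroup.normalizer (ι.range : Set G)
  up_mem : ∀ t, ι (up t) ∈ (P : Subgroup G)

namespace Emb

variable {p : ℕ} {G : Type*} [Group G] {F : Type*} [Field F] (D : Emb p G F)
include D

theorem app_mul (g h : G) (v : V2 F) : D.φ (g * h) v = D.φ g (D.φ h v) := by rw [map_mul]; rfl

theorem app_one (v : V2 F) : D.φ 1 v = v := by rw [map_one]; rfl

theorem app_inv_self (g : G) (v : V2 F) : D.φ g⁻¹ (D.φ g v) = v := by
  rw [← D.app_mul, inv_mul_cancel, D.app_one]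

theorem app_self_inv (g : G) (v : V2 F) : D.φ g (D.φ g⁻¹ v) = v := by
  rw [← D.app_mul, mul_inv_cancel, D.app_one]

theorem app_injective (g : G) : Function.Injective (D.φ g) :=
  Function.LeftInverse.injective (D.app_inv_self g)

theorem ext_app {g h : G} (e : ∀ v, D.φ g v = D.φ h v) : g = h :=
  D.inj (AddMonoidHom.ext e)

theorem ι_injective : Function.Injective D.ι := by
  intro s t h
  refine Subtype.ext (Matrix.ext fun i j => ?_)
  have := congrFun ((D.act s (Pi.single j 1)).symm.trans ((by rw [h] : D.φ (D.ι s) (Pi.single j 1) = D.φ (D.ι t) (Pi.single j 1)).trans (D.act t _))) i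
  simpa [Matrix.mulVec_single_one] using this

theorem act_up (t : F) (v : V2 F) : D.φ (D.ι (up t)) v = ![v 0 + t * v 1, v 1] := by
  rw [D.act, (NatSL2.isU_up t).mulVec]
  rfl

/-- The line fixed by `U`. -/
def W (_D : Emb p G F) : AddSubgroup (V2 F) where
  carrier := {v | v 1 = 0}
  zero_mem' := rfl
  add_mem' := fun {a b} ha hb => by
    show a 1 + b 1 = 0
    rw [show a 1 = 0 from ha, show b 1 = 0 from hb, add_zero]
  neg_mem' := fun {a} ha => by
    show -a 1 = 0
    rw [show a 1 = 0 from ha, neg_zero]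

theorem mem_W {v : V2 F} : v ∈ D.W ↔ v 1 = 0 := Iff.rfl

/-- The root group. -/
def U : Subgroup G := (NatSL2.upperU (F := F)).map D.ι

theorem up_mem_U (t : F) : D.ι (up t) ∈ D.U := ⟨_, NatSL2.isU_up t, rfl⟩

theorem exists_up {g : G} (hg : g ∈ D.U) : ∃ t, g = D.ι (up t) := by
  obtain ⟨M, hM, rfl⟩ := hg
  exact ⟨M.1 0 1, congrArg D.ι (NatSL2.IsU.eq_up hM)⟩

theorem U_le_P : D.U ≤ (D.P : Subgroup G) := fun g hg => by
  obtain ⟨t, rfl⟩ := D.exists_up hg
  exact D.up_mem t

theorem fix_up_iff {t : F} (ht : t ≠ 0) (v : V2 F) : D.φ (D.ι (up t)) v = v ↔ v ∈ D.W := by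
  rw [D.act_up, mem_W]
  constructor
  · intro h
    have := congrFun h 0
    simpa [ht] using this
  · intro h
    rw [h]
    funext i; fin_cases i <;> simp [h]

/-- An element of `P` inside `SL₂(F)` lies in `U`. -/
theorem mem_U_of_mem_range [Finite F] [Fact p.Prime] [CharP F p] {g : G} (hg : g ∈ (D.P : Subgroup G))
    (hgL : g ∈ D.ι.range) : g ∈ D.U := by
  obtain ⟨s, rfl⟩ := hgL
  haveI := Fintype.ofFinite F
  obtain ⟨v, hv, hfix⟩ := QdOver.exists_fixed_vector (p := p)
    (D.P.isPGroup'.comap_of_injective D.ι D.ι_injective)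
  have h1 := hfix (up (1 : F)) (D.up_mem 1)
  rw [← D.act, D.fix_up_iff one_ne_zero, mem_W] at h1
  have hs := hfix s hg
  have hv0 : v 0 ≠ 0 := fun h0 => hv (funext fun i => by fin_cases i <;> assumption)
  rw [NatSL2.mulVec_apply] at hs
  have h00 := congrFun hs 0
  have h10 := congrFun hs 1
  simp only [h1, mul_zero, add_zero, Matrix.cons_val_zero, Matrix.cons_val_one] at h00 h10
  exact ⟨s, ⟨mul_right_cancel₀ hv0 (h00.trans (one_mul _).symm),
    (mul_eq_zero.1 h10).resolve_right hv0⟩, rfl⟩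

/-- The stabiliser of the series `0 < W < F²`. -/
def Q : Subgroup G where
  carrier := {g | (∀ w ∈ D.W, D.φ g w = w) ∧ ∀ v, (D.φ g v) 1 = v 1}
  one_mem' := ⟨fun w _ => D.app_one w, fun v => by rw [D.app_one]⟩
  mul_mem' := fun {a b} ha hb => ⟨fun w hw => by rw [D.app_mul, hb.1 w hw, ha.1 w hw],
    fun v => by rw [D.app_mul, ha.2, hb.2]⟩
  inv_mem' := fun {a} ha => ⟨fun w hw => by
      conv_lhs => rw [← ha.1 w hw]
      rw [D.app_inv_self],
    fun v => by
      conv_rhs => rw [← D.app_self_inv a v]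
      rw [ha.2]⟩

theorem U_le_Q : D.U ≤ D.Q := fun g hg => by
  obtain ⟨t, rfl⟩ := D.exists_up hg
  refine ⟨fun w hw => ?_, fun v => by simp [D.act_up]⟩
  rw [mem_W] at hw
  rw [D.act_up, hw]
  funext i; fin_cases i <;> simp [hw]

theorem sub_mem_W {g : G} (hg : g ∈ D.Q) (v : V2 F) : D.φ g v - v ∈ D.W := by
  show (D.φ g v - v) 1 = 0
  simp [hg.2 v]

theorem pow_Q {g : G} (hg : g ∈ D.Q) (v : V2 F) (n : ℕ) :
    D.φ (g ^ n) v = v + n • (D.φ g v - v) := by
  induction n with
  | zero => rw [pow_zero, D.app_one, zero_nsmul, add_zero]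
  | succ n ih =>
    rw [pow_succ', D.app_mul, ih, map_add, map_nsmul, hg.1 _ (D.sub_mem_W hg v), succ_nsmul']
    abel

theorem pow_Q_eq_one [CharP F p] {g : G} (hg : g ∈ D.Q) : g ^ p = 1 := D.ext_app fun v => by
  rw [D.pow_Q hg, D.app_one]
  funext i
  simp

theorem comm_Q {g h : G} (hg : g ∈ D.Q) (hh : h ∈ D.Q) : g * h = h * g := D.ext_app fun v => by
  rw [D.app_mul, D.app_mul]
  conv_lhs => rw [← add_sub_cancel v (D.φ h v)]
  conv_rhs => rw [← add_sub_cancel v (D.φ g v)]
  rw [map_add, map_add, hg.1 _ (D.sub_mem_W hh v), hh.1 _ (D.sub_mem_W hg v)]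
  abel

/-- The stabiliser of `W`. -/
def GW : Subgroup G where
  carrier := {g | ∀ w : V2 F, D.φ g w ∈ D.W ↔ w ∈ D.W}
  one_mem' := fun w => by rw [D.app_one]
  mul_mem' := fun {a b} ha hb w => by rw [D.app_mul, ha, hb]
  inv_mem' := fun {a} ha w => by rw [← ha, D.app_self_inv]

theorem conj_mem_Q {g x : G} (hg : g ∈ D.GW) (hx : x ∈ D.Q) : g * x * g⁻¹ ∈ D.Q := by
  have hgi : g⁻¹ ∈ D.GW := inv_mem hg
  refine ⟨fun w hw => ?_, fun v => ?_⟩
  · rw [D.app_mul, D.app_mul, hx.1 _ ((hgi w).2 hw), D.app_self_inv]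
  · rw [D.app_mul, D.app_mul]
    have h : D.φ g (D.φ x (D.φ g⁻¹ v) - D.φ g⁻¹ v) ∈ D.W := (hg _).2 (D.sub_mem_W hx _)
    rw [map_sub, D.app_self_inv, mem_W] at h
    simpa [sub_eq_zero] using h

theorem Q_le_GW : D.Q ≤ D.GW := fun g hg w => by rw [mem_W, mem_W, hg.2]

variable [Finite G] [Finite F] [hp : Fact p.Prime] [CharP F p]

/-- An element of `Q` normalising `SL₂(F)` lies in `U`. -/
theorem mem_U_of_Q_normalizer {g : G} (hg : g ∈ D.Q)
    (hN : g ∈ Subgroup.normalizer (D.ι.range : Set G)) : g ∈ D.U := by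
  let w : SpecialLinearGroup (Fin 2) F := ⟨!![0, 1; -1, 0], by simp [Matrix.det_fin_two_of]⟩
  have hw : ∀ v : V2 F, D.φ (D.ι w) v = ![v 1, -v 0] := fun v => by
    rw [D.act, NatSL2.mulVec_apply]
    simp [w]
  obtain ⟨s, hs⟩ := (Subgroup.mem_normalizer_iff.1 hN (D.ι w)).1 ⟨w, rfl⟩
  have hlin : ∀ v : V2 F, D.φ g (D.φ (D.ι w) (D.φ g⁻¹ v)) = s.1 *ᵥ v := fun v => by
    rw [← D.app_mul, ← D.app_mul, ← D.act, hs]
  let δ : F → F := fun b => (D.φ g ![0, b]) 0
  have hgv : ∀ a b, D.φ g ![a, b] = ![a + δ b, b] := by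
    intro a b
    have e : (![a, b] : V2 F) = ![a, 0] + ![0, b] := by funext i; fin_cases i <;> simp
    rw [e, map_add, hg.1 _ (by simp [mem_W])]
    funext i
    fin_cases i
    · simp [δ]
    · simpa using hg.2 ![0, b]
  have hgi : ∀ a b, D.φ g⁻¹ ![a, b] = ![a - δ b, b] := by
    intro a b
    apply D.app_injective g
    rw [D.app_self_inv, hgv, sub_add_cancel]
  have hsec : ∀ b, δ b = s.1 1 1 * b := by
    intro b
    have h := congrFun (hlin ![0, b]) 1
    rw [hgi, hw, hgv, NatSL2.mulVec_apply] at h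
    simpa using h
  refine (show g = D.ι (up (s.1 1 1)) from D.ext_app fun v => ?_) ▸ D.up_mem_U _
  rw [show v = ![v 0, v 1] by funext i; fin_cases i <;> rfl, hgv, D.act_up, hsec]
  simp

theorem P_le_GW : (D.P : Subgroup G) ≤ D.GW := by
  have key : ∀ g ∈ (D.P : Subgroup G), ∀ w ∈ D.W, D.φ g w ∈ D.W := by
    intro g hg w hw
    have hu : g⁻¹ * D.ι (up 1) * g⁻¹⁻¹ ∈ D.U := by
      refine D.mem_U_of_mem_range (mul_mem (mul_mem (inv_mem hg) (D.up_mem 1)) (by simpa using hg)) ?_
      exact (Subgroup.mem_normalizer_iff.1 (D.P_le (inv_mem hg)) _).1 ⟨_, rfl⟩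
    have h1 := (D.U_le_Q hu).1 w hw
    rw [inv_inv, D.app_mul, D.app_mul] at h1
    have h2 := congrArg (D.φ g) h1
    rw [D.app_self_inv] at h2
    exact (D.fix_up_iff one_ne_zero _).1 h2
  exact fun g hg w => ⟨fun h => by
    have := key _ (inv_mem hg) _ h
    rwa [D.app_inv_self] at this, key g hg w⟩

theorem Q_le_P : D.Q ≤ (D.P : Subgroup G) := by
  have hn : (D.P : Subgroup G) ≤ Subgroup.normalizer (D.Q : Set G) := fun g hg => by
    rw [Subgroup.mem_normalizer_iff]
    refine fun x => ⟨fun hx => D.conj_mem_Q (D.P_le_GW hg) hx, fun hx => ?_⟩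
    have h := D.conj_mem_Q (inv_mem (D.P_le_GW hg)) hx
    rwa [show g⁻¹ * (g * x * g⁻¹) * g⁻¹⁻¹ = x by group] at h
  have hQ : IsPGroup p ↥D.Q := fun x => ⟨1, Subtype.ext (by
    rw [pow_one, SubmonoidClass.coe_pow, D.pow_Q_eq_one x.2, Subgroup.coe_one])⟩
  have h := (D.P.isPGroup'.to_sup_of_normal_right' hQ hn)
  exact le_sup_right.trans (D.P.is_maximal' h le_sup_left).le

theorem mem_U_iff {g : G} : g ∈ D.U ↔ g ∈ D.Q :=
  ⟨fun h => D.U_le_Q h, fun h => D.mem_U_of_Q_normalizer h (D.P_le (D.Q_le_P h))⟩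

theorem conj_mem_U {g x : G} (hg : g ∈ D.GW) (hx : x ∈ D.U) : g * x * g⁻¹ ∈ D.U :=
  D.mem_U_iff.2 (D.conj_mem_Q hg (D.mem_U_iff.1 hx))

theorem quad_U {g : G} (hg : g ∈ D.U) (v : V2 F) :
    D.φ g (D.φ g v - v) = D.φ g v - v :=
  (D.U_le_Q hg).1 _ (D.sub_mem_W (D.U_le_Q hg) v)

/-- The map induced by conjugation on the parameters of `U`. -/
def c (g : G) (t : F) : F := (D.φ (g * D.ι (up t) * g⁻¹) ![0, 1]) 0

theorem conj_up {g : G} (hg : g ∈ D.GW) (t : F) : g * D.ι (up t) * g⁻¹ = D.ι (up (D.c g t)) := by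
  obtain ⟨u, hu⟩ := D.exists_up (D.conj_mem_U hg (D.up_mem_U t))
  rw [c, hu, D.act_up]
  simp

theorem c_eq {g : G} (hg : g ∈ D.GW) {t u : F} (h : g * D.ι (up t) * g⁻¹ = D.ι (up u)) :
    D.c g t = u := by
  have := D.ι_injective ((D.conj_up hg t).symm.trans h)
  simpa [QdOver.up] using congrArg (fun M => M.1 0 1) this

theorem c_add {g : G} (hg : g ∈ D.GW) (s t : F) : D.c g (s + t) = D.c g s + D.c g t := by
  refine D.c_eq hg ?_
  rw [NatSL2.up_mul, map_mul, NatSL2.up_mul, map_mul, ← D.conj_up hg, ← D.conj_up hg]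
  group

theorem c_mul {g h : G} (hg : g ∈ D.GW) (hh : h ∈ D.GW) (t : F) :
    D.c (g * h) t = D.c g (D.c h t) := by
  refine D.c_eq (mul_mem hg hh) ?_
  rw [← D.conj_up hg, ← D.conj_up hh]
  group

theorem c_one (t : F) : D.c 1 t = t := D.c_eq (one_mem _) (by simp)

theorem c_injective {g : G} (hg : g ∈ D.GW) : Function.Injective (D.c g) :=
  Function.LeftInverse.injective (g := D.c g⁻¹) fun t => by
    rw [← D.c_mul (inv_mem hg) hg, inv_mul_cancel, D.c_one]

theorem c_zero {g : G} (hg : g ∈ D.GW) : D.c g 0 = 0 := by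
  have h := D.c_add hg 0 0
  rw [add_zero] at h
  exact left_eq_add.1 h

/-- The restriction to `W`. -/
def α (g : G) (t : F) : F := (D.φ g ![t, 0]) 0

/-- The map induced on `F² / W`. -/
def γ (g : G) (x : F) : F := (D.φ g ![0, x]) 1

theorem app_line {g : G} (hg : g ∈ D.GW) (t : F) : D.φ g ![t, 0] = ![D.α g t, 0] := by
  have h : (D.φ g ![t, 0]) 1 = 0 := (hg _).2 (by simp [mem_W])
  funext i; fin_cases i
  · rfl
  · simpa using h

theorem α_smul {g : G} (hg : g ∈ D.GW) (t x : F) : D.α g (t * x) = D.c g t * D.γ g x := by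
  have h : D.φ (g * D.ι (up t)) ![0, x] = D.φ (D.ι (up (D.c g t)) * g) ![0, x] := by
    rw [← D.conj_up hg]; congr 2; group
  rw [D.app_mul, D.app_mul, D.act_up (D.c g t), D.act_up t] at h
  have e : (![(![0, x] : V2 F) 0 + t * (![0, x] : V2 F) 1, (![0, x] : V2 F) 1] : V2 F) =
      ![t * x, 0] + ![0, x] := by funext i; fin_cases i <;> simp
  rw [e, map_add, D.app_line hg] at h
  have h0 := congrFun h 0
  simp only [γ, Pi.add_apply, Matrix.cons_val_zero] at h0 ⊢
  linear_combination h0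

theorem γ_one_ne_zero {g : G} (hg : g ∈ D.GW) : D.γ g 1 ≠ 0 := by
  intro h
  have := (hg ![0, 1]).1 (by rw [mem_W]; exact h)
  simp [mem_W] at this

theorem c_one_ne_zero {g : G} (hg : g ∈ D.GW) : D.c g 1 ≠ 0 := fun h =>
  one_ne_zero (D.c_injective hg (h.trans (D.c_zero hg).symm))

theorem c_smul {g : G} (hg : g ∈ D.GW) (t x : F) : D.c g (t * x) * D.c g 1 = D.c g t * D.c g x := by
  have h1 := D.α_smul hg t x
  have h2 := D.α_smul hg (t * x) 1
  have h3 := D.α_smul hg 1 x
  have h4 := D.α_smul hg x 1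
  rw [mul_one] at h2 h4
  rw [one_mul] at h3
  have hk := D.γ_one_ne_zero hg
  apply mul_right_cancel₀ hk
  linear_combination D.c g 1 * h1 - D.c g 1 * h2 - D.c g t * h3 + D.c g t * h4

/-- The field automorphism attached to an element of `GW`. -/
noncomputable def θ {g : G} (hg : g ∈ D.GW) : F ≃+* F :=
  RingEquiv.ofBijective
    ({ toFun := fun t => D.c g t / D.c g 1
       map_one' := div_self (D.c_one_ne_zero hg)
       map_mul' := fun a b => by
         have := D.c_smul hg a b
         have := D.c_one_ne_zero hg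
         field_simp
         linear_combination D.c_smul hg a b
       map_zero' := by rw [D.c_zero hg, zero_div]
       map_add' := fun a b => by rw [D.c_add hg, add_div] } : F →+* F)
    (Finite.injective_iff_bijective.1 fun a b h =>
      D.c_injective hg ((div_left_inj' (D.c_one_ne_zero hg)).1 h))

theorem θ_apply {g : G} (hg : g ∈ D.GW) (t : F) : D.θ hg t = D.c g t / D.c g 1 := rfl

theorem c_eq_θ {g : G} (hg : g ∈ D.GW) (t : F) : D.c g t = D.c g 1 * D.θ hg t := by
  rw [D.θ_apply, mul_div_cancel₀ _ (D.c_one_ne_zero hg)]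

/-- `P / U` embeds in the automorphism group of `F`. -/
noncomputable def Theta : ↥(D.P : Subgroup G) →* (F ≃+* F) where
  toFun g := D.θ (D.P_le_GW g.2)
  map_one' := RingEquiv.ext fun t => by
    rw [D.θ_apply]
    show D.c 1 t / D.c 1 1 = t
    rw [D.c_one, D.c_one, div_one]
  map_mul' g h := RingEquiv.ext fun t => by
    have hg := D.P_le_GW g.2
    have hh := D.P_le_GW h.2
    show D.c (g * h : G) t / D.c (g * h : G) 1 = D.θ hg (D.θ hh t)
    rw [D.θ_apply hh, map_div₀, D.θ_apply, D.θ_apply, D.c_mul hg hh, D.c_mul hg hh,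
      div_div_div_cancel_right₀ (D.c_one_ne_zero hg)]

/-- Only `1` is a root of unity of `p`-power order. -/
theorem eq_one_of_pow {a : F} {k : ℕ} (h : a ^ p ^ k = 1) : a = 1 := by
  have : ExpChar F p := ExpChar.prime hp.out
  exact iterateFrobenius_inj F p k (by rw [iterateFrobenius_def, iterateFrobenius_def, h, one_pow])

theorem mem_U_of_θ {g : G} (hgP : g ∈ (D.P : Subgroup G))
    (h : ∀ t, D.θ (D.P_le_GW hgP) t = t) : g ∈ D.U := by
  have hg := D.P_le_GW hgP
  have hct : ∀ t, D.c g t = D.c g 1 * t := fun t => by rw [D.c_eq_θ hg, h]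
  obtain ⟨n, hn⟩ := D.P.isPGroup' ⟨g, hgP⟩
  have hgn : g ^ p ^ n = 1 := congrArg Subtype.val hn
  have hcn : ∀ m : ℕ, ∀ t, D.c (g ^ m) t = D.c g 1 ^ m * t := by
    intro m
    induction m with
    | zero => intro t; rw [pow_zero, D.c_one, pow_zero, one_mul]
    | succ m ih => intro t; rw [pow_succ', D.c_mul hg (pow_mem hg m), hct, ih, pow_succ']; ring
  have h1 : D.c g 1 = 1 := eq_one_of_pow D (k := n) (by
    have := hcn (p ^ n) 1
    rw [hgn, D.c_one, mul_one] at this
    exact this.symm)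
  have hα : ∀ t, D.α g t = t * D.γ g 1 := fun t => by
    have := D.α_smul hg t 1
    rwa [mul_one, hct, h1, one_mul] at this
  have hγ : ∀ x, D.γ g x = x * D.γ g 1 := fun x => by
    have := D.α_smul hg 1 x
    rwa [one_mul, h1, one_mul, hα, eq_comm] at this
  have hk : ∀ m : ℕ, ∀ v : V2 F, (D.φ (g ^ m) v) 1 = D.γ g 1 ^ m * v 1 := by
    intro m
    induction m with
    | zero => intro v; rw [pow_zero, D.app_one, pow_zero, one_mul]
    | succ m ih =>
      intro v
      rw [pow_succ', D.app_mul]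
      set w := D.φ (g ^ m) v with hw
      have e : w = ![w 0, 0] + ![0, w 1] := by funext i; fin_cases i <;> simp
      rw [e, map_add, D.app_line hg]
      have := hγ (w 1)
      simp only [γ] at this ⊢
      simp only [Pi.add_apply, Matrix.cons_val_one, Matrix.cons_val_zero, zero_add, this]
      rw [hw, ih, pow_succ']
      simp only [γ]
      ring
  have hk1 : D.γ g 1 = 1 := eq_one_of_pow D (k := n) (by
    have := hk (p ^ n) ![0, 1]
    rw [hgn, D.app_one] at this
    simpa using this.symm)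
  refine D.mem_U_iff.2 ⟨fun w hw => ?_, fun v => ?_⟩
  · rw [mem_W] at hw
    rw [show w = ![w 0, 0] by funext i; fin_cases i <;> simp [hw], D.app_line hg, hα, hk1, mul_one]
  · have := hk 1 v
    rwa [pow_one, pow_one, hk1, one_mul] at this

theorem ker_Theta {g : ↥(D.P : Subgroup G)} (h : D.Theta g = 1) : (g : G) ∈ D.U :=
  D.mem_U_of_θ g.2 fun t => RingEquiv.congr_fun h t

/-- For odd `p` the quadratic elements of `P` lie in `U`. -/
theorem mem_U_of_quad (hp2 : p ≠ 2) {g : G} (hgP : g ∈ (D.P : Subgroup G))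
    (hq : ∀ v, D.φ g (D.φ g v - v) = D.φ g v - v) : g ∈ D.U := by
  have hg := D.P_le_GW hgP
  refine D.mem_U_of_θ hgP fun t => ?_
  set s := D.θ hg with hs
  set A := D.c g 1 * D.γ g 1 with hA
  have hα : ∀ t, D.α g t = A * s t := fun t => by
    have := D.α_smul hg t 1
    rw [mul_one, D.c_eq_θ hg t] at this
    rw [this, hA, hs]; ring
  have hαsub : ∀ a b, D.α g (a - b) = D.α g a - D.α g b := fun a b => by
    rw [hα, hα, hα, map_sub, mul_sub]
  have hquad : ∀ x, D.α g (D.α g x - x) = D.α g x - x := by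
    intro x
    have h := hq ![x, 0]
    rw [D.app_line hg] at h
    have e : (![D.α g x, 0] : V2 F) - ![x, 0] = ![D.α g x - x, 0] := by
      funext i; fin_cases i <;> simp
    rw [e, D.app_line hg] at h
    simpa using congrFun h 0
  by_cases hid : ∀ x, D.α g x = x
  · have h1 := hid 1
    rw [hα, map_one, mul_one] at h1
    have h2 := hid t
    rwa [hα, h1, one_mul] at h2
  push Not at hid
  obtain ⟨x₀, hx₀⟩ := hid
  set y := D.α g x₀ - x₀ with hy
  have hy0 : y ≠ 0 := sub_ne_zero.2 hx₀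
  have hyf : A * s y = y := by rw [← hα]; exact hquad x₀
  have hD2 : ∀ a, s (s a - a) = s a - a := by
    intro a
    have h := hquad (a * y)
    have e1 : D.α g (a * y) = s a * y := by rw [hα, map_mul]; linear_combination s a * hyf
    have e2 : D.α g ((s a - a) * y) = s (s a - a) * y := by
      rw [hα, map_mul]; linear_combination s (s a - a) * hyf
    rw [e1, show s a * y - a * y = (s a - a) * y by ring, e2] at h
    exact mul_right_cancel₀ hy0 h
  set d := s t - t with hd
  have hst : s t = t + d := by rw [hd]; ring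
  have hsd : s d = d := hD2 t
  have h := hD2 (t * t)
  rw [map_mul, hst, show (t + d) * (t + d) - t * t = d * t + d * t + d * d by ring, map_add, map_add,
    map_mul, map_mul, hst, hsd] at h
  have h2 : (2 : F) * (d * d) = 0 := by linear_combination h
  have h20 : (2 : F) ≠ 0 := by
    intro e
    have := (CharP.cast_eq_zero_iff F p 2).1 (by exact_mod_cast e)
    exact hp2 ((Nat.prime_dvd_prime_iff_eq hp.out Nat.prime_two).1 this)
  have hd0 : d = 0 := by
    rcases mul_eq_zero.1 h2 with e | e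
    · exact absurd e h20
    · exact (mul_self_eq_zero).1 e
  rw [hst, hd0, add_zero]

end Emb

end Cfsg.Agent.NatEmbedded
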