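import Cfsg.Agent.EqLemmas
import Cfsg.Agent.Lib.NatEmbedded.Setup
import Mathlib.FieldTheory.Finite.Basic
import Mathlib.Algebra.Algebra.ZMod

/-!
# A natural `SL₂` whose normaliser contains a Sylow subgroup: the images of the fixed line

* `flat_or_four`: either every image of `W` is a line of `F²` or `F` has four elements
* `normal_of_flat`: in the first case the image of `SL₂(F)` is normal
-/

set_option autoImplicit false
set_option linter.unusedSectionVars false
set_option linter.style.haveILetI false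

namespace Cfsg.Agent.NatEmbedded

open Matrix QdOver

local notation "V2" F => Fin 2 → F

/-- Two involutive automorphisms of a finite field are equal. -/
theorem involution_unique {p : ℕ} [Fact p.Prime] {F : Type*} [Field F] [Finite F] [CharP F p]
    {σ τ : F ≃+* F} (hσ : σ * σ = 1) (hτ : τ * τ = 1) (hσ1 : σ ≠ 1) (hτ1 : τ ≠ 1) : σ = τ := by
  classical
  letI := ZMod.algebra F p
  haveI := Fintype.ofFinite F
  let e : (F ≃+* F) →* (F ≃ₐ[ZMod p] F) :=
    { toFun := fun f => AlgEquiv.ofRingEquiv (f := f)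
        (fun x => RingHom.congr_fun (Subsingleton.elim (f.toRingHom.comp (algebraMap (ZMod p) F))
          (algebraMap (ZMod p) F)) x)
      map_one' := AlgEquiv.ext fun x => rfl
      map_mul' := fun a b => AlgEquiv.ext fun x => rfl }
  have he : Function.Injective e := fun a b h => RingEquiv.ext fun x => AlgEquiv.congr_fun h x
  by_contra hne
  haveI : Fintype (F ≃ₐ[ZMod p] F) := Fintype.ofFinite _
  have hle := IsCyclic.card_pow_eq_one_le (α := F ≃ₐ[ZMod p] F) (n := 2) two_pos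
  have h3 : ({1, e σ, e τ} : Finset (F ≃ₐ[ZMod p] F)).card = 3 := by
    rw [Finset.card_eq_three]
    refine ⟨1, e σ, e τ, ?_, ?_, he.ne hne, rfl⟩
    · exact fun h => hσ1 (he (by rw [← h, map_one]))
    · exact fun h => hτ1 (he (by rw [← h, map_one]))
  have hsub : ({1, e σ, e τ} : Finset (F ≃ₐ[ZMod p] F)) ⊆
      Finset.univ.filter (fun a => a ^ 2 = 1) := by
    intro a ha
    simp only [Finset.mem_insert, Finset.mem_singleton] at ha
    simp only [Finset.mem_filter, Finset.mem_univ, true_and, pow_two]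
    rcases ha with rfl | rfl | rfl
    · simp
    · rw [← map_mul, hσ, map_one]
    · rw [← map_mul, hτ, map_one]
  have := Finset.card_le_card hsub
  omega

namespace Emb

variable {p : ℕ} {G : Type*} [Group G] {F : Type*} [Field F] (D : Emb p G F)
  [Finite G] [Finite F] [hp : Fact p.Prime] [CharP F p]
include D

theorem mem_GW_of_le {x : G} (h : ∀ w ∈ D.W, D.φ x w ∈ D.W) : x ∈ D.GW := by
  intro w
  refine ⟨fun hw => ?_, h w⟩
  have hs : Function.Surjective (fun y : ↥D.W => (⟨D.φ x y, h y y.2⟩ : ↥D.W)) :=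
    Finite.surjective_of_injective fun a b e =>
      Subtype.ext (D.app_injective x (congrArg Subtype.val e))
  obtain ⟨y, hy⟩ := hs ⟨_, hw⟩
  exact (D.app_injective x (congrArg Subtype.val hy)) ▸ y.2

theorem eq_one_of_conj_mem_U {x u : G} (hx : x ∉ D.GW) (hu : u ∈ D.U) (h : x * u * x⁻¹ ∈ D.U) :
    u = 1 := by
  by_contra hu1
  obtain ⟨s, hs⟩ := D.exists_up h
  have hs0 : s ≠ 0 := by
    rintro rfl
    refine hu1 (conj_eq_one_iff.1 (hs.trans ?_))
    rw [show (up (0 : F)) = 1 from Subtype.ext (by simp [QdOver.up, Matrix.one_fin_two]), map_one]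
  refine hx (D.mem_GW_of_le fun w hw => (D.fix_up_iff hs0 _).1 ?_)
  rw [← hs, ← D.app_mul, inv_mul_cancel_right, D.app_mul, (D.U_le_Q hu).1 w hw]

theorem exists_conj (g : G) :
    ∃ x, x * g ∈ D.GW ∧ ∀ u ∈ D.U, g⁻¹ * u * g ∈ D.GW → x * u * x⁻¹ ∈ (D.P : Subgroup G) := by
  let A : Subgroup ↥D.GW := (D.U.map (MulAut.conj g⁻¹).toMonoidHom).subgroupOf D.GW
  have hU : IsPGroup p ↥D.U := D.P.isPGroup'.to_le D.U_le_P
  have hA : IsPGroup p A :=
    (hU.map _).comap_of_injective D.GW.subtype Subtype.val_injective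
  obtain ⟨S, hS⟩ := hA.exists_le_sylow
  obtain ⟨h, hh⟩ := MulAction.exists_smul_eq (↥D.GW) S (D.P.subtype D.P_le_GW)
  refine ⟨(h : G) * g⁻¹, by simp, fun u hu hug => ?_⟩
  have h1 : (⟨g⁻¹ * u * g, hug⟩ : ↥D.GW) ∈ A := ⟨u, hu, by simp⟩
  have h2 : MulAut.conj h ⟨g⁻¹ * u * g, hug⟩ ∈ D.P.subtype D.P_le_GW := by
    rw [← hh, Sylow.smul_def]
    exact Subgroup.mem_map.2 ⟨_, hS h1, rfl⟩
  have h3 : ((MulAut.conj h ⟨g⁻¹ * u * g, hug⟩ : ↥D.GW) : G) ∈ (D.P : Subgroup G) := h2
  simpa [mul_assoc] using h3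

theorem quad_conj {x u : G} (hu : u ∈ D.U) (v : V2 F) :
    D.φ (x * u * x⁻¹) (D.φ (x * u * x⁻¹) v - v) = D.φ (x * u * x⁻¹) v - v := by
  have e : ∀ y, D.φ (x * u * x⁻¹) y = D.φ x (D.φ u (D.φ x⁻¹ y)) := fun y => by
    rw [D.app_mul, D.app_mul]
  have hv : D.φ (x * u * x⁻¹) v - v = D.φ x (D.φ u (D.φ x⁻¹ v) - D.φ x⁻¹ v) := by
    rw [map_sub, D.app_self_inv, e]
  rw [hv, e, D.app_inv_self, D.quad_U hu]

/-- For odd `p` no nontrivial element of `U` moves the image of `W` trivially. -/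
theorem R_odd (hp2 : p ≠ 2) {g u : G} (hg : g ∉ D.GW) (hu : u ∈ D.U)
    (hug : g⁻¹ * u * g ∈ D.GW) : u = 1 := by
  obtain ⟨x, hxg, hx⟩ := D.exists_conj g
  have hxn : x ∉ D.GW := fun h => hg ((Subgroup.mul_mem_cancel_left _ h).1 hxg)
  exact D.eq_one_of_conj_mem_U hxn hu
    (D.mem_U_of_quad hp2 (hx u hu hug) (D.quad_conj hu))

/-- For `p = 2` there is at most one. -/
theorem R_two (hp2 : p = 2) {g u u' : G} (hg : g ∉ D.GW) (hu : u ∈ D.U) (hu' : u' ∈ D.U)
    (hug : g⁻¹ * u * g ∈ D.GW) (hug' : g⁻¹ * u' * g ∈ D.GW) (h1 : u ≠ 1) (h1' : u' ≠ 1) :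
    u = u' ∧ ∃ a ∈ (D.P : Subgroup G), a ∉ D.U := by
  subst hp2
  obtain ⟨x, hxg, hx⟩ := D.exists_conj g
  have hxn : x ∉ D.GW := fun h => hg ((Subgroup.mul_mem_cancel_left _ h).1 hxg)
  let a : ↥(D.P : Subgroup G) := ⟨_, hx u hu hug⟩
  let a' : ↥(D.P : Subgroup G) := ⟨_, hx u' hu' hug'⟩
  have key : ∀ v ∈ D.U, ∀ b : ↥(D.P : Subgroup G), (b : G) = x * v * x⁻¹ → v ≠ 1 →
      D.Theta b * D.Theta b = 1 ∧ D.Theta b ≠ 1 := by
    intro v hv b hb hv1
    refine ⟨?_, fun h => hv1 (D.eq_one_of_conj_mem_U hxn hv (hb ▸ D.ker_Theta h))⟩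
    have hvv : v * v = 1 := by rw [← pow_two]; exact D.pow_Q_eq_one (D.U_le_Q hv)
    have hbb : b * b = 1 := Subtype.ext (by
      show (b : G) * b = 1
      rw [hb, show x * v * x⁻¹ * (x * v * x⁻¹) = x * (v * v) * x⁻¹ by group, hvv]
      simp)
    rw [← map_mul, hbb, map_one]
  obtain ⟨hs, hs1⟩ := key u hu a rfl h1
  obtain ⟨ht, ht1⟩ := key u' hu' a' rfl h1'
  have hst := involution_unique (p := 2) hs ht hs1 ht1
  refine ⟨?_, a, a.2, fun h => h1 (D.eq_one_of_conj_mem_U hxn hu h)⟩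
  have h := D.ker_Theta (g := a⁻¹ * a') (by rw [map_mul, map_inv, hst, inv_mul_cancel])
  refine (inv_mul_eq_one.1 (D.eq_one_of_conj_mem_U hxn (mul_mem (inv_mem hu) hu') ?_))
  have e : x * (u⁻¹ * u') * x⁻¹ = ((a⁻¹ * a' : ↥(D.P : Subgroup G)) : G) := by
    show _ = (x * u * x⁻¹)⁻¹ * (x * u' * x⁻¹)
    group
  rw [e]
  exact h

/-- The part of `W` inside its image under `g`. -/
def I (g : G) : Set (V2 F) := {w | w ∈ D.W ∧ D.φ g⁻¹ w ∈ D.W}

theorem mem_I {g : G} {w : V2 F} : w ∈ D.I g ↔ w ∈ D.W ∧ D.φ g⁻¹ w ∈ D.W := Iff.rfl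

/-- Every image of `W` is a line of `F²`. -/
def Flat : Prop := ∀ g : G, ∃ s, (D.ι s)⁻¹ * g ∈ D.GW

theorem flat_or_four :
    D.Flat ∨ (p = 2 ∧ Nat.card F = 4 ∧ (∀ g, g ∉ D.GW → (D.I g).ncard ≤ 2) ∧
      (∃ g, g ∉ D.GW ∧ ∃ z ∈ D.I g, z ≠ 0) ∧ ∃ a ∈ (D.P : Subgroup G), a ∉ D.U) := by
  classical
  by_cases hTI : ∀ g, g ∉ D.GW → ∀ z ∈ D.I g, z = 0
  · refine Or.inl fun g => ?_
    obtain ⟨s, hs⟩ := NatSL2.exists_sl2_column (v := D.φ g ![1, 0]) (fun h => by
      rw [← map_zero (D.φ g)] at h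
      simpa using congrFun (D.app_injective g h) 0)
    refine ⟨s, by_contra fun hx => ?_⟩
    have he : D.φ ((D.ι s)⁻¹ * g)⁻¹ ![1, 0] = ![1, 0] := by
      rw [_root_.mul_inv_rev, inv_inv, D.app_mul, D.act, hs, D.app_inv_self]
    have := hTI _ hx ![1, 0] ⟨by simp [mem_W], by rw [he]; simp [mem_W]⟩
    simpa using congrFun this 0
  right
  push Not at hTI
  obtain ⟨g₀, hg₀, z₀, hz₀, hz₀n⟩ := hTI
  haveI : Nonempty {g : G // g ∉ D.GW} := ⟨⟨g₀, hg₀⟩⟩
  obtain ⟨⟨g, hg⟩, hmax⟩ := Finite.exists_max fun g : {g : G // g ∉ D.GW} => (D.I g.1).ncard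
  have hzero : ∀ k : G, (0 : V2 F) ∈ D.I k := fun k => ⟨zero_mem _, by rw [map_zero]; exact zero_mem _⟩
  obtain ⟨z, hz, hzn⟩ : ∃ z ∈ D.I g, z ≠ 0 := by
    by_contra h
    push Not at h
    have h2 : 2 ≤ (D.I g₀).ncard := by
      refine (Set.ncard_pair (Ne.symm hz₀n)).symm.le.trans
        (Set.ncard_le_ncard ?_ (Set.toFinite _))
      rintro y (rfl | rfl)
      exacts [hzero _, hz₀]
    have h1 : (D.I g).ncard ≤ 1 := Set.ncard_le_one_iff_subsingleton.2
      fun a ha b hb => (h a ha).trans (h b hb).symm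
    have := hmax ⟨g₀, hg₀⟩
    simp only at this
    omega
  obtain ⟨w, hw, hwW⟩ : ∃ w, D.φ g⁻¹ w ∈ D.W ∧ w ∉ D.W := by
    by_contra h
    push Not at h
    exact hg (D.mem_GW_of_le fun y hy => h _ (by rwa [D.app_inv_self]))
  let u : (V2 F) → (V2 F) → G := fun w y => D.ι (up (y 0 / w 1))
  have hadd : ∀ w' y : V2 F, w' ∉ D.W → y ∈ D.W → D.φ (u w' y) w' = w' + y := by
    intro w' y hw' hy
    rw [mem_W] at hw' hy
    rw [D.act_up, div_mul_cancel₀ _ hw']
    funext i
    fin_cases i <;> simp [hy]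
  have hR : ∀ w', D.φ g⁻¹ w' ∈ D.W → w' ∉ D.W → ∀ y ∈ D.I g, g⁻¹ * u w' y * g ∈ D.GW := by
    intro w' hw' hw'W y hy
    by_contra hn
    set k := g⁻¹ * u w' y * g with hk
    have hsub : D.φ g⁻¹ '' insert (D.φ (u w' y) w') (D.I g) ⊆ D.I k := by
      rintro _ ⟨v, hv, rfl⟩
      rw [mem_I, ← D.app_mul k⁻¹, show k⁻¹ * g⁻¹ = g⁻¹ * (u w' y)⁻¹ by rw [hk]; group, D.app_mul]
      rcases hv with rfl | hv
      · exact ⟨by rw [hadd w' y hw'W hy.1, map_add]; exact add_mem hw' hy.2,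
          by rw [D.app_inv_self]; exact hw'⟩
      · refine ⟨hv.2, ?_⟩
        rw [(D.U_le_Q (inv_mem (D.up_mem_U _))).1 v hv.1]
        exact hv.2
    have hnI : D.φ (u w' y) w' ∉ D.I g := fun h => hw'W (by
      have := h.1
      rw [hadd w' y hw'W hy.1] at this
      simpa using sub_mem this hy.1)
    have h1 := Set.ncard_le_ncard hsub (Set.toFinite _)
    rw [Set.ncard_image_of_injective _ (D.app_injective _),
      Set.ncard_insert_of_notMem hnI (Set.toFinite _)] at h1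
    have := hmax ⟨k, hn⟩
    simp only at this
    omega
  have hu1 : ∀ w', w' ∉ D.W → ∀ y ∈ D.I g, y ≠ 0 → u w' y ≠ 1 := by
    intro w' hw' y hy hyn h
    have := hadd w' y hw' hy.1
    rw [h, D.app_one, left_eq_add] at this
    exact hyn this
  have hp2 : p = 2 := by
    by_contra hp2
    exact hu1 w hwW z hz hzn (D.R_odd hp2 hg (D.up_mem_U _) (hR w hw hwW z hz))
  have huniq : ∀ w' w'', D.φ g⁻¹ w' ∈ D.W → w' ∉ D.W → D.φ g⁻¹ w'' ∈ D.W → w'' ∉ D.W →
      ∀ y ∈ D.I g, ∀ y' ∈ D.I g, y ≠ 0 → y' ≠ 0 → y 0 / w' 1 = y' 0 / w'' 1 := by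
    intro w' w'' h1 h2 h3 h4 y hy y' hy' hyn hyn'
    have := (D.R_two hp2 hg (D.up_mem_U _) (D.up_mem_U _) (hR w' h1 h2 y hy) (hR w'' h3 h4 y' hy')
      (hu1 w' h2 y hy hyn) (hu1 w'' h4 y' hy' hyn')).1
    simpa [QdOver.up] using congrArg (fun M => M.1 0 1) (D.ι_injective this)
  have hI : D.I g = {0, z} := by
    refine Set.Subset.antisymm (fun y hy => ?_) ?_
    · by_cases hyn : y = 0
      · exact Or.inl hyn
      · right
        have h0 : y 0 = z 0 := (div_left_inj' (show w 1 ≠ 0 from hwW)).1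
          (huniq w w hw hwW hw hwW y hy z hz hyn hzn)
        funext i
        fin_cases i
        · exact h0
        · exact (show y 1 = 0 from hy.1).trans (show z 1 = 0 from hz.1).symm
    · rintro y (rfl | rfl)
      exacts [hzero _, hz]
  have hI2 : (D.I g).ncard = 2 := by rw [hI, Set.ncard_pair (Ne.symm hzn)]
  refine ⟨hp2, ?_, fun k hk => ?_, ⟨g, hg, z, hz, hzn⟩,
    (D.R_two hp2 hg (D.up_mem_U _) (D.up_mem_U _) (hR w hw hwW z hz) (hR w hw hwW z hz)
      (hu1 w hwW z hz hzn) (hu1 w hwW z hz hzn)).2⟩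
  · -- the image of `W` has four elements
    have hwz : w + z ∉ D.W := fun h => hwW (by simpa using sub_mem h hz.1)
    have hset : D.φ g '' (D.W : Set (V2 F)) = {0, z, w, w + z} := by
      refine Set.Subset.antisymm ?_ ?_
      · rintro _ ⟨v, hv, rfl⟩
        have hy : D.φ g⁻¹ (D.φ g v) ∈ D.W := by rw [D.app_inv_self]; exact hv
        by_cases hvW : D.φ g v ∈ D.W
        · have h : D.φ g v ∈ D.I g := ⟨hvW, hy⟩
          rw [hI] at h
          rcases h with h | h <;> simp_all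
        · have h := huniq _ w hy hvW hw hwW z hz z hz hzn hzn
          have hz0 : z 0 ≠ 0 := fun h0 => hzn (funext fun i => by
            fin_cases i
            · exact h0
            · exact hz.1)
          have hd : D.φ g v - w ∈ D.I g := by
            refine ⟨?_, by rw [map_sub]; exact sub_mem hy hw⟩
            show (D.φ g v - w) 1 = 0
            rw [Pi.sub_apply, sub_eq_zero]
            exact inv_inj.1 (mul_left_cancel₀ hz0 (by simpa [div_eq_mul_inv] using h))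
          rw [hI] at hd
          rcases hd with hd | hd
          · rw [sub_eq_zero.1 hd]; simp
          · rw [show D.φ g v = w + z by rw [← Set.mem_singleton_iff.1 hd]; abel]; simp
      · intro y hy
        refine ⟨D.φ g⁻¹ y, ?_, D.app_self_inv _ _⟩
        rcases hy with rfl | rfl | rfl | rfl
        · simp
        · exact hz.2
        · exact hw
        · rw [map_add]; exact add_mem hw hz.2
    have h4 : ({0, z, w, w + z} : Set (V2 F)).ncard = 4 := by
      rw [Set.ncard_eq_toFinset_card' ]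
      rw [Set.toFinset_insert, Set.toFinset_insert, Set.toFinset_insert, Set.toFinset_singleton,
        Finset.card_insert_of_notMem, Finset.card_insert_of_notMem, Finset.card_insert_of_notMem,
        Finset.card_singleton]
      · simpa using hzn
      · simp only [Finset.mem_insert, Finset.mem_singleton, not_or]
        exact ⟨fun h => hwW (h ▸ hz.1), fun h => hwz (h ▸ hz.1)⟩
      · simp only [Finset.mem_insert, Finset.mem_singleton, not_or]
        exact ⟨Ne.symm hzn, fun h => hwW (h ▸ zero_mem _), fun h => hwz (h ▸ zero_mem _)⟩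
    rw [← h4, ← hset, Set.ncard_image_of_injective _ (D.app_injective g), ← Nat.card_coe_set_eq]
    exact Nat.card_congr
      { toFun := fun t => ⟨![t, 0], by simp [mem_W]⟩
        invFun := fun y => y.1 0
        left_inv := fun t => rfl
        right_inv := fun y => Subtype.ext (funext fun i => by
          fin_cases i
          · rfl
          · exact (show y.1 1 = 0 from y.2).symm) }
  · have := hmax ⟨k, hk⟩
    simp only at this
    omega

theorem normal_of_flat (h : D.Flat) : D.ι.range.Normal := by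
  have key : ∀ (t : F) (g : G), g * D.ι (up t) * g⁻¹ ∈ D.ι.range := by
    intro t g
    obtain ⟨s, hs⟩ := h g
    refine ⟨s * up (D.c ((D.ι s)⁻¹ * g) t) * s⁻¹, ?_⟩
    rw [map_mul, map_mul, map_inv, ← D.conj_up hs]
    group
  refine ⟨fun n hn g => ?_⟩
  obtain ⟨s, rfl⟩ := hn
  have hs : s ∈ Subgroup.closure
      (Set.range (Quadratic.upperE : F → SpecialLinearGroup (Fin 2) F) ∪ Set.range Quadratic.lowerE) := by
    rw [SL2Natural.closure_upper_lower]; trivial
  clear h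
  induction hs using Subgroup.closure_induction generalizing g with
  | mem x hx =>
    rcases hx with ⟨t, rfl⟩ | ⟨t, rfl⟩
    · exact key t g
    · have e := eq_mul_inv_of_mul_eq (SL2Natural.lower_wE (one_ne_zero' F) t)
      rw [e, map_mul, map_mul, map_inv]
      have := key (-t * (1 * 1)) (g * D.ι (SL2Natural.wE 1))
      rw [_root_.mul_inv_rev] at this
      simpa only [mul_assoc, QdOver.up, Quadratic.upperE] using this
  | one => simp
  | mul x y _ _ hx hy =>
    rw [map_mul, show g * (D.ι x * D.ι y) * g⁻¹ = g * D.ι x * g⁻¹ * (g * D.ι y * g⁻¹) by group]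
    exact mul_mem (hx g) (hy g)
  | inv x _ hx =>
    rw [map_inv, show g * (D.ι x)⁻¹ * g⁻¹ = (g * D.ι x * g⁻¹)⁻¹ by group]
    exact inv_mem (hx g)

end Emb

end Cfsg.Agent.NatEmbedded
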