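import Cfsg.Agent.EqLemmas
import Cfsg.Agent.Lib.NatEmbedded.Disjoint
import Cfsg.Agent.Lib.Linear.AltEight
import Mathlib.Combinatorics.Enumerative.DoubleCounting
import Mathlib.LinearAlgebra.Projectivization.PSL.PSL2

/-!
# The field with four elements: the group is `A₇` or the image of `SL₂(4)` is normal

* `normal_or_alt_seven`
-/

set_option autoImplicit false
set_option linter.unusedSectionVars false
set_option linter.style.haveILetI false

namespace Cfsg.Agent.NatEmbedded

open Matrix QdOver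

local notation "V2" F => Fin 2 → F

/-- A field of four elements has at most two automorphisms. -/
theorem card_ringAut_four {F : Type*} [Field F] [Finite F] [CharP F 2] (hq : Nat.card F = 4) :
    Nat.card (F ≃+* F) ≤ 2 := by
  classical
  haveI := Fintype.ofFinite F
  have h2 : (({0, 1} : Finset F)ᶜ).card = 2 := by
    rw [Finset.card_compl, Finset.card_pair zero_ne_one, ← Nat.card_eq_fintype_card, hq]
  obtain ⟨a, ha⟩ := Finset.card_pos.1 (by rw [h2]; norm_num : 0 < (({0, 1} : Finset F)ᶜ).card)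
  simp only [Finset.mem_compl, Finset.mem_insert, Finset.mem_singleton, not_or] at ha
  have hall : ∀ x : F, x = 0 ∨ x = 1 ∨ x = a ∨ x = a + 1 := by
    intro x
    have hset : ({0, 1, a, a + 1} : Finset F) = Finset.univ := by
      refine Finset.eq_univ_of_card _ ?_
      rw [← Nat.card_eq_fintype_card, hq, Finset.card_insert_of_notMem, Finset.card_insert_of_notMem,
        Finset.card_pair]
      · simp
      · simp only [Finset.mem_insert, Finset.mem_singleton, not_or]
        exact ⟨Ne.symm ha.2, fun h => ha.1 (by simpa using h)⟩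
      · simp only [Finset.mem_insert, Finset.mem_singleton, not_or]
        refine ⟨zero_ne_one, Ne.symm ha.1, fun h => ha.2 ?_⟩
        rw [eq_neg_of_add_eq_zero_left h.symm, CharTwo.neg_eq]
    have := Finset.mem_univ x
    rw [← hset] at this
    simpa using this
  refine le_trans (Nat.card_le_card_of_injective
    (fun σ : F ≃+* F => (⟨σ a, by simp [ha.1, ha.2]⟩ : ↥(({0, 1} : Finset F)ᶜ))) ?_) ?_
  · intro σ τ h
    have h' : σ a = τ a := congrArg Subtype.val h
    refine RingEquiv.ext fun x => ?_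
    rcases hall x with rfl | rfl | rfl | rfl <;> simp [h']
  · rw [Nat.card_eq_fintype_card, Fintype.card_coe, h2]

/-- `G` is a group of order `2520` inside `A₈`. -/
theorem alt_seven_of_card {G : Type*} [Group G] [Finite G] (f : G →* ↥(alternatingGroup (Fin 8)))
    (hf : Function.Injective f) (hG : Nat.card G = 2520) :
    Nonempty (G ≃* ↥(alternatingGroup (Fin 7))) := by
  classical
  set H := f.range with hH
  have hHc : Nat.card H = 2520 := by
    rw [← hG]; exact (Nat.card_congr (MonoidHom.ofInjective hf).toEquiv).symm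
  have hA : Nat.card ↥(alternatingGroup (Fin 8)) = 20160 := by
    rw [nat_card_alternatingGroup, Nat.card_fin]; decide
  have hidx : H.index = 8 := by
    have h := H.card_mul_index
    rw [hHc, hA] at h
    omega
  haveI : IsSimpleGroup ↥(alternatingGroup (Fin 8)) := alternatingGroup.isSimpleGroup (by simp)
  have hcore : H.normalCore = ⊥ := by
    rcases H.normalCore_normal.eq_bot_or_eq_top with h | h
    · exact h
    · have : H = ⊤ := top_le_iff.1 (h ▸ H.normalCore_le)
      rw [this, Subgroup.index_top] at hidx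
      omega
  set θ := MulAction.toPermHom ↥(alternatingGroup (Fin 8)) (↥(alternatingGroup (Fin 8)) ⧸ H) with hθd
  have hθ : Function.Injective θ := by
    rw [← MonoidHom.ker_eq_bot_iff, hθd, ← Subgroup.normalCore_eq_ker]
    exact hcore
  set x₀ : ↥(alternatingGroup (Fin 8)) ⧸ H := ((1 : ↥(alternatingGroup (Fin 8))) : _ ⧸ H) with hx₀
  have hfix : ∀ h : ↥H, θ (h : ↥(alternatingGroup (Fin 8))) x₀ = x₀ := fun h => by
    show (h : ↥(alternatingGroup (Fin 8))) • x₀ = x₀
    rw [hx₀]
    exact QuotientGroup.eq.2 (by simp [smul_eq_mul])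
  have hiff : ∀ (h : ↥H) (x : _), θ (h : ↥(alternatingGroup (Fin 8))) x ≠ x₀ ↔ x ≠ x₀ := fun h x => by
    constructor
    · rintro hne rfl
      exact hne (hfix h)
    · exact fun hne e => hne ((θ _).injective (e.trans (hfix h).symm))
  let ψ : ↥H →* Equiv.Perm {x : ↥(alternatingGroup (Fin 8)) ⧸ H // x ≠ x₀} :=
    { toFun := fun h => (θ (h : ↥(alternatingGroup (Fin 8)))).subtypePerm (hiff h)
      map_one' := Equiv.ext fun x => Subtype.ext (by simp)
      map_mul' := fun a b => Equiv.ext fun x => Subtype.ext (by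
        show θ ((a : ↥(alternatingGroup (Fin 8))) * b) x = _
        rw [map_mul]
        rfl) }
  have hψ : Function.Injective ψ := fun a b e => Subtype.ext (hθ (Equiv.ext fun x => by
    by_cases hx : x = x₀
    · rw [hx, hfix a, hfix b]
    · exact congrArg Subtype.val (Equiv.congr_fun e ⟨x, hx⟩)))
  haveI : Fintype (↥(alternatingGroup (Fin 8)) ⧸ H) := Fintype.ofFinite _
  have hcard : Fintype.card {x : ↥(alternatingGroup (Fin 8)) ⧸ H // x ≠ x₀} = 7 := by
    rw [Fintype.card_subtype_compl, Fintype.card_subtype_eq, ← Nat.card_eq_fintype_card,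
      ← Subgroup.index_eq_card, hidx]
  let e7 := (Fintype.equivFinOfCardEq hcard).permCongrHom
  have hinj : Function.Injective (e7.toMonoidHom.comp ψ) := e7.injective.comp hψ
  have hR : (e7.toMonoidHom.comp ψ).range = alternatingGroup (Fin 7) := by
    refine Equiv.Perm.eq_alternatingGroup_of_index_eq_two ?_
    have h := (e7.toMonoidHom.comp ψ).range.card_mul_index
    rw [Nat.card_perm, Nat.card_fin,
      Nat.card_congr (MonoidHom.ofInjective hinj).symm.toEquiv, hHc] at h
    have : Nat.factorial 7 = 5040 := rfl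
    omega
  exact ⟨((MonoidHom.ofInjective hf).trans (MonoidHom.ofInjective hinj)).trans
    (MulEquiv.subgroupCongr hR)⟩

namespace Emb

variable {G : Type*} [Group G] {F : Type*} [Field F] (D : Emb 2 G F)
  [Finite G] [Finite F] [CharP F 2] (hq : Nat.card F = 4)
include D hq

theorem card_V2 : Nat.card (V2 F) = 16 := by
  rw [Nat.card_fun, hq, Nat.card_fin]; norm_num

theorem card_U : Nat.card ↥D.U = 4 := by
  rw [← hq]
  refine (Nat.card_eq_of_bijective (fun t : F => (⟨_, D.up_mem_U t⟩ : ↥D.U)) ⟨fun a b h => ?_,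
    fun x => ?_⟩).symm
  · simpa [QdOver.up] using congrArg (fun M => M.1 0 1) (D.ι_injective (congrArg Subtype.val h))
  · obtain ⟨t, ht⟩ := D.exists_up x.2
    exact ⟨t, Subtype.ext ht.symm⟩

theorem card_P (ha : ∃ a ∈ (D.P : Subgroup G), a ∉ D.U) : Nat.card ↥(D.P : Subgroup G) = 8 := by
  haveI : Finite (F ≃+* F) :=
    Finite.of_injective (fun σ => (σ : F → F)) DFunLike.coe_injective
  have hker : Nat.card ↥D.Theta.ker ≤ 4 := by
    rw [← D.card_U hq]
    exact Nat.card_le_card_of_injective (fun x => (⟨_, D.ker_Theta x.2⟩ : ↥D.U)) fun a b h =>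
      Subtype.ext (Subtype.ext (congrArg (fun y : ↥D.U => (y : G)) h))
  have hr : Nat.card ↥D.Theta.range ≤ 2 :=
    (Nat.card_le_card_of_injective _ Subtype.val_injective).trans (card_ringAut_four hq)
  have h := D.Theta.ker.card_mul_index
  rw [Subgroup.index_ker] at h
  have h8 : Nat.card ↥(D.P : Subgroup G) ≤ 8 := h ▸ Nat.mul_le_mul hker hr
  have hd := Subgroup.card_dvd_of_le D.U_le_P
  rw [D.card_U hq] at hd
  have hne : Nat.card ↥(D.P : Subgroup G) ≠ 4 := by
    intro h4
    obtain ⟨a, haP, haU⟩ := ha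
    have hUP : D.U = (D.P : Subgroup G) :=
      Subgroup.eq_of_le_of_card_ge D.U_le_P (by rw [h4, D.card_U hq])
    exact haU (hUP ▸ haP)
  obtain ⟨k, hk⟩ := D.P.isPGroup'.exists_card_eq
  have hpos : 0 < Nat.card ↥(D.P : Subgroup G) := Nat.card_pos
  have hk3 : k ≤ 3 := (Nat.pow_le_pow_iff_right (le_refl 2)).1 (hk ▸ h8 : 2 ^ k ≤ 2 ^ 3)
  interval_cases k <;> simp_all

theorem exists_toAlt : ∃ f : G →* ↥(alternatingGroup (Fin 8)), Function.Injective f := by
  have hz : ∀ x : ZMod 2, x ≠ 0 → x = 1 := by decide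
  classical
  letI := ZMod.algebra F 2
  haveI : Fact (Nat.Prime 2) := ⟨Nat.prime_two⟩
  have hfr : Module.finrank (ZMod 2) (V2 F) = 4 := by
    have h := Module.natCard_eq_pow_finrank (K := ZMod 2) (V := V2 F)
    rw [card_V2 D hq, Nat.card_zmod] at h
    exact (Nat.pow_right_injective (le_refl 2) (h.symm.trans (by norm_num : (16 : ℕ) = 2 ^ 4)))
  let b := Module.finBasisOfFinrankEq (ZMod 2) (V2 F) hfr
  let lin : G → Module.End (ZMod 2) (V2 F) := fun g => (D.φ g : (V2 F) →+ (V2 F)).toZModLinearMap 2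
  have hlm : ∀ g h, lin (g * h) = lin g * lin h := fun g h =>
    LinearMap.ext fun v => D.app_mul g h v
  have hl1 : lin 1 = 1 := LinearMap.ext fun v => D.app_one v
  let M : G →* Matrix (Fin 4) (Fin 4) (ZMod 2) :=
    { toFun := fun g => LinearMap.toMatrix b b (lin g)
      map_one' := by rw [hl1]; exact LinearMap.toMatrix_one b
      map_mul' := fun g h => by rw [hlm]; exact LinearMap.toMatrix_mul b _ _ }
  have hdet : ∀ g, (M g).det = 1 := fun g => by
    have h : IsUnit (M g).det :=
      (Matrix.isUnit_iff_isUnit_det _).1 ((Group.isUnit g).map M)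
    exact hz _ h.ne_zero
  let f : G →* SpecialLinearGroup (Fin 4) (ZMod 2) :=
    { toFun := fun g => ⟨M g, hdet g⟩
      map_one' := Subtype.ext M.map_one
      map_mul' := fun g h => Subtype.ext (M.map_mul g h) }
  obtain ⟨e⟩ := Linear.nonempty_slFour_two
  refine ⟨e.toMonoidHom.comp f, e.injective.comp fun g h hgh => D.ext_app fun v => ?_⟩
  exact LinearMap.congr_fun ((LinearMap.toMatrix b b).injective (congrArg Subtype.val hgh)) v

theorem card_G_dvd (ha : ∃ a ∈ (D.P : Subgroup G), a ∉ D.U) : Nat.card G ∣ 2520 := by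
  haveI : Fact (Nat.Prime 2) := ⟨Nat.prime_two⟩
  obtain ⟨f, hf⟩ := D.exists_toAlt hq
  have h1 := Subgroup.card_dvd_of_injective f hf
  rw [nat_card_alternatingGroup, Nat.card_fin,
    show Nat.factorial 8 / 2 = 8 * (8 * 315) by decide] at h1
  have h2 := (D.P : Subgroup G).card_mul_index
  rw [D.card_P hq ha] at h2
  rw [← h2, show (2520 : ℕ) = 8 * 315 from rfl]
  rw [← h2] at h1
  have h3 : (D.P : Subgroup G).index ∣ 8 * 315 :=
    Nat.dvd_of_mul_dvd_mul_left (by norm_num) h1
  have hcop : Nat.Coprime (D.P : Subgroup G).index 8 :=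
    Nat.Coprime.pow_right 3 ((Nat.Prime.coprime_iff_not_dvd Nat.prime_two).2 D.P.not_dvd_index).symm
  exact Nat.mul_dvd_mul_left 8 (hcop.dvd_of_dvd_mul_left h3)

theorem app_snd {g : G} (hg : g ∈ D.GW) (v : V2 F) : (D.φ g v) 1 = D.γ g (v 1) := by
  rw [show v = ![v 0, 0] + ![0, v 1] by funext i; fin_cases i <;> simp, map_add, D.app_line hg]
  simp [γ]

theorem card_GW_dvd : Nat.card ↥D.GW ∣ 2304 := by
  classical
  haveI : Fact (Nat.Prime 2) := ⟨Nat.prime_two⟩
  have hγm : ∀ a b : ↥D.GW, ∀ x, D.γ ((a : G) * b) x = D.γ a (D.γ b x) := fun a b x => by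
    show (D.φ ((a : G) * b) ![0, x]) 1 = _
    rw [D.app_mul, D.app_snd hq a.2]
    rfl
  have hγ1 : ∀ x, D.γ (1 : G) x = x := fun x => by
    show (D.φ 1 ![0, x]) 1 = x
    rw [D.app_one]; simp
  let perm : ↥D.GW → Equiv.Perm ↥D.W × Equiv.Perm F := fun g =>
    (⟨fun w => ⟨D.φ g w, (g.2 _).2 w.2⟩, fun w => ⟨D.φ (g : G)⁻¹ w, ((inv_mem g.2 : _ ∈ D.GW) _).2 w.2⟩,
      fun w => Subtype.ext (D.app_inv_self _ _), fun w => Subtype.ext (D.app_self_inv _ _)⟩,
    ⟨D.γ (g : G), D.γ ((g⁻¹ : ↥D.GW) : G),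
      fun x => by rw [← hγm, ← Subgroup.coe_mul, inv_mul_cancel]; exact hγ1 x,
      fun x => by rw [← hγm, ← Subgroup.coe_mul, mul_inv_cancel]; exact hγ1 x⟩)
  let ρ : ↥D.GW →* Equiv.Perm ↥D.W × Equiv.Perm F :=
    { toFun := perm
      map_one' := Prod.ext (Equiv.ext fun w => Subtype.ext (D.app_one _)) (Equiv.ext fun x => hγ1 x)
      map_mul' := fun a b => Prod.ext (Equiv.ext fun w => Subtype.ext (D.app_mul _ _ _))
        (Equiv.ext fun x => hγm a b x) }
  have hker : Nat.card ↥ρ.ker ∣ 4 := by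
    rw [← D.card_U hq]
    refine (dvd_of_eq (Nat.card_congr (ρ.ker.equivMapOfInjective D.GW.subtype
      Subtype.val_injective).toEquiv)).trans (Subgroup.card_dvd_of_le ?_)
    rintro _ ⟨g, hg, rfl⟩
    have h1 : perm g = 1 := hg
    refine D.mem_U_iff.2 ⟨fun w hw => ?_, fun v => ?_⟩
    · exact congrArg Subtype.val (Equiv.congr_fun (congrArg Prod.fst h1) ⟨w, hw⟩)
    · show (D.φ (g : G) v) 1 = v 1
      rw [D.app_snd hq g.2]
      exact Equiv.congr_fun (congrArg Prod.snd h1) (v 1)
  have hW : Nat.card ↥D.W = 4 := by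
    rw [← hq]
    exact (Nat.card_congr
      { toFun := fun t => (⟨![t, 0], by simp [mem_W]⟩ : ↥D.W)
        invFun := fun y => y.1 0
        left_inv := fun t => rfl
        right_inv := fun y => Subtype.ext (funext fun i => by
          fin_cases i
          · rfl
          · exact (show y.1 1 = 0 from y.2).symm) }).symm
  have hr := Subgroup.card_subgroup_dvd_card ρ.range
  rw [Nat.card_prod, Nat.card_perm, Nat.card_perm, hW, hq] at hr
  rw [← ρ.ker.card_mul_index, Subgroup.index_ker]
  exact (Nat.mul_dvd_mul hker hr).trans (by decide)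

theorem dvd_card_GW (ha : ∃ a ∈ (D.P : Subgroup G), a ∉ D.U) : 24 ∣ Nat.card ↥D.GW := by
  haveI : Fact (Nat.Prime 2) := ⟨Nat.prime_two⟩
  have h8 : 8 ∣ Nat.card ↥D.GW := D.card_P hq ha ▸ Subgroup.card_dvd_of_le D.P_le_GW
  let d : Fˣ →* SpecialLinearGroup (Fin 2) F :=
    { toFun := fun a => ⟨!![(a : F), 0; 0, (a⁻¹ : Fˣ)], by simp [Matrix.det_fin_two_of]⟩
      map_one' := Subtype.ext (by simp [Matrix.one_fin_two])
      map_mul' := fun a b => Subtype.ext (by
        show _ = !![(a : F), 0; 0, (a⁻¹ : Fˣ)] * !![(b : F), 0; 0, (b⁻¹ : Fˣ)]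
        simp [mul_comm]) }
  have hd : ∀ a, D.ι (d a) ∈ D.GW := fun a => D.mem_GW_of_le fun w hw => by
    rw [mem_W] at hw ⊢
    rw [D.act]
    show ((!![(a : F), 0; 0, ((a⁻¹ : Fˣ) : F)]) *ᵥ w) 1 = 0
    simp [Matrix.mulVec, dotProduct, Fin.sum_univ_two, hw]
  have h3 : 3 ∣ Nat.card ↥D.GW := by
    have := Subgroup.card_dvd_of_injective ((D.ι.comp d).codRestrict D.GW hd) fun a b h => by
      have h' := congrArg (fun M => M.1 0 0) (D.ι_injective (congrArg Subtype.val h))
      exact Units.ext h'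
    rwa [Nat.card_units, hq] at this
  exact Nat.Coprime.mul_dvd_of_dvd_of_dvd (by norm_num : Nat.Coprime 8 3) h8 h3

/-- The images of `W` through a vector. -/
def Lines (v : V2 F) : Set (G ⧸ D.GW) := {x | D.φ x.out⁻¹ v ∈ D.W}

theorem mem_Lines {v : V2 F} {g : G} : (g : G ⧸ D.GW) ∈ D.Lines v ↔ D.φ g⁻¹ v ∈ D.W := by
  obtain ⟨h, hh⟩ := QuotientGroup.mk_out_eq_mul D.GW g
  show D.φ (g : G ⧸ D.GW).out⁻¹ v ∈ D.W ↔ _
  rw [hh, _root_.mul_inv_rev, D.app_mul]
  exact (inv_mem h.2 : (h : G)⁻¹ ∈ D.GW) _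

theorem ncard_Lines {v : V2 F} (hv : v ≠ 0) : (D.Lines v).ncard = (D.Lines ![1, 0]).ncard := by
  obtain ⟨s, hs⟩ := NatSL2.exists_sl2_column hv
  have e : D.Lines v = (fun x => D.ι s • x) '' D.Lines ![1, 0] := by
    ext x
    induction x using QuotientGroup.induction_on with | H g => ?_
    constructor
    · intro h
      refine ⟨((D.ι s)⁻¹ * g : G), ?_, by simp⟩
      rw [D.mem_Lines hq] at h ⊢
      rw [_root_.mul_inv_rev, inv_inv, D.app_mul, D.act, hs]
      exact h
    · rintro ⟨y, hy, e⟩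
      induction y using QuotientGroup.induction_on with | H k => ?_
      dsimp only at e
      rw [← e, show D.ι s • (k : G ⧸ D.GW) = ((D.ι s * k : G) : G ⧸ D.GW) from rfl, D.mem_Lines hq,
        _root_.mul_inv_rev,
        D.app_mul]
      rw [D.mem_Lines hq] at hy
      have : D.φ (D.ι s)⁻¹ v = ![1, 0] := by rw [← hs, ← D.act, D.app_inv_self]
      rwa [this]
  rw [e, Set.ncard_image_of_injective _ (MulAction.injective _)]

theorem index_GW : D.GW.index = 5 * (D.Lines ![1, 0]).ncard := by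
  classical
  haveI := Fintype.ofFinite F
  haveI := Fintype.ofFinite (G ⧸ D.GW)
  have h := Finset.sum_card_bipartiteAbove_eq_sum_card_bipartiteBelow
    (r := fun (v : V2 F) (x : G ⧸ D.GW) => x ∈ D.Lines v)
    (s := Finset.univ.erase 0) (t := Finset.univ)
  have hL : ∀ v ∈ (Finset.univ.erase 0 : Finset (V2 F)),
      (Finset.bipartiteAbove (fun (v : V2 F) (x : G ⧸ D.GW) => x ∈ D.Lines v) Finset.univ v).card =
        (D.Lines ![1, 0]).ncard := fun v hv => by
    rw [← D.ncard_Lines hq (Finset.mem_erase.1 hv).1, Set.ncard_eq_toFinset_card']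
    congr 1
    ext x
    simp [Finset.bipartiteAbove]
  have hR : ∀ x ∈ (Finset.univ : Finset (G ⧸ D.GW)),
      (Finset.bipartiteBelow (fun (v : V2 F) (x : G ⧸ D.GW) => x ∈ D.Lines v)
        (Finset.univ.erase 0) x).card = 3 := fun x _ => by
    rw [show (3 : ℕ) = ((Finset.univ.erase (0 : F)).image fun t => D.φ x.out ![t, 0]).card by
      rw [Finset.card_image_of_injective _ fun a b e => congrFun (D.app_injective _ e) 0,
        Finset.card_erase_of_mem (Finset.mem_univ _), Finset.card_univ, ← Nat.card_eq_fintype_card,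
        hq]]
    congr 1
    ext v
    simp only [Finset.bipartiteBelow, Finset.mem_filter, Finset.mem_erase, Finset.mem_univ,
      and_true, Finset.mem_image]
    constructor
    · rintro ⟨hv0, hv⟩
      have e : ![(D.φ x.out⁻¹ v) 0, 0] = D.φ x.out⁻¹ v := by
        funext i
        fin_cases i
        · rfl
        · exact (show (D.φ x.out⁻¹ v) 1 = 0 from hv).symm
      refine ⟨(D.φ x.out⁻¹ v) 0, fun h0 => hv0 ?_, by rw [e, D.app_self_inv]⟩
      rw [h0] at e
      have := congrArg (D.φ x.out) e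
      rw [D.app_self_inv] at this
      rw [← this]
      convert map_zero (D.φ x.out)
      simp
    · rintro ⟨t, ht, rfl⟩
      refine ⟨fun h0 => ht ?_, ?_⟩
      · rw [← map_zero (D.φ x.out)] at h0
        simpa using congrFun (D.app_injective _ h0) 0
      · show D.φ x.out⁻¹ (D.φ x.out ![t, 0]) ∈ D.W
        rw [D.app_inv_self]
        simp [mem_W]
  rw [Finset.sum_congr rfl hL, Finset.sum_congr rfl hR, Finset.sum_const, Finset.sum_const,
    Finset.card_erase_of_mem (Finset.mem_univ _), Finset.card_univ, Finset.card_univ,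
    ← Nat.card_eq_fintype_card, ← Nat.card_eq_fintype_card, card_V2 D hq,
    ← Subgroup.index_eq_card, smul_eq_mul, smul_eq_mul] at h
  omega

theorem Lines_le (hI : ∀ g, g ∉ D.GW → (D.I g).ncard ≤ 2) : (D.Lines ![1, 0]).ncard ≤ 7 := by
  classical
  haveI := Fintype.ofFinite F
  haveI := Fintype.ofFinite (G ⧸ D.GW)
  set e₁ : V2 F := ![1, 0] with he₁
  have he : e₁ ≠ 0 := fun h => by simpa [he₁] using congrFun h 0
  set S : Finset (V2 F) := (Finset.univ.erase 0).erase e₁ with hS
  have hScard : S.card = 14 := by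
    rw [hS, Finset.card_erase_of_mem (by simp [he]), Finset.card_erase_of_mem (Finset.mem_univ _),
      Finset.card_univ, ← Nat.card_eq_fintype_card, card_V2 D hq]
  have h := Finset.sum_card_bipartiteAbove_eq_sum_card_bipartiteBelow
    (r := fun (v : V2 F) (x : G ⧸ D.GW) => x ∈ D.Lines v) (s := S) (t := (D.Lines e₁).toFinset)
  have hL : ∀ v ∈ S, (Finset.bipartiteAbove (fun (v : V2 F) (x : G ⧸ D.GW) => x ∈ D.Lines v)
      (D.Lines e₁).toFinset v).card ≤ 1 := fun v hv => by
    rw [Finset.card_le_one]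
    intro x hx y hy
    simp only [Finset.bipartiteAbove, Finset.mem_filter, Set.mem_toFinset] at hx hy
    by_contra hne
    simp only [hS, Finset.mem_erase, Finset.mem_univ, and_true] at hv
    have hk : x.out⁻¹ * y.out ∉ D.GW := fun hk => hne (by
      rw [← QuotientGroup.out_eq' x, ← QuotientGroup.out_eq' y]
      exact QuotientGroup.eq.2 hk)
    have hmem : ∀ u, x ∈ D.Lines u → y ∈ D.Lines u → D.φ x.out⁻¹ u ∈ D.I (x.out⁻¹ * y.out) :=
      fun u hu hu' => ⟨hu, by rw [_root_.mul_inv_rev, inv_inv, D.app_mul, D.app_self_inv]; exact hu'⟩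
    have hsub : ({0, D.φ x.out⁻¹ e₁, D.φ x.out⁻¹ v} : Set (V2 F)) ⊆ D.I (x.out⁻¹ * y.out) := by
      rintro u (rfl | rfl | rfl)
      · exact ⟨zero_mem _, by rw [map_zero]; exact zero_mem _⟩
      · exact hmem _ hx.1 hy.1
      · exact hmem _ hx.2 hy.2
    have hne0 : ∀ u, u ≠ 0 → (0 : V2 F) ≠ D.φ x.out⁻¹ u := fun u hu h => hu (by
      rw [← map_zero (D.φ x.out⁻¹)] at h
      exact (D.app_injective _ h).symm)
    have h3 : ({0, D.φ x.out⁻¹ e₁, D.φ x.out⁻¹ v} : Set (V2 F)).ncard = 3 := by
      rw [Set.ncard_insert_of_notMem (by simp [hne0 _ he, hne0 _ hv.2]) (Set.toFinite _),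
        Set.ncard_pair ((D.app_injective _).ne (Ne.symm hv.1))]
    have := (Set.ncard_le_ncard hsub (Set.toFinite _)).trans (hI _ hk)
    omega
  have hR : ∀ x ∈ (D.Lines e₁).toFinset, 2 ≤ (Finset.bipartiteBelow
      (fun (v : V2 F) (x : G ⧸ D.GW) => x ∈ D.Lines v) S x).card := fun x hx => by
    rw [Set.mem_toFinset] at hx
    have hsub : (((Finset.univ.erase (0 : F)).erase ((D.φ x.out⁻¹ e₁) 0)).image
        fun t => D.φ x.out ![t, 0]) ⊆ Finset.bipartiteBelow
          (fun (v : V2 F) (x : G ⧸ D.GW) => x ∈ D.Lines v) S x := by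
      intro v hv
      simp only [Finset.mem_image, Finset.mem_erase, Finset.mem_univ, and_true] at hv
      obtain ⟨t, ⟨ht1, ht0⟩, rfl⟩ := hv
      simp only [Finset.bipartiteBelow, Finset.mem_filter, hS, Finset.mem_erase, Finset.mem_univ,
        and_true]
      refine ⟨⟨fun h => ht1 ?_, fun h => ht0 ?_⟩, ?_⟩
      · rw [← h, D.app_inv_self]; simp
      · rw [← map_zero (D.φ x.out)] at h
        simpa using congrFun (D.app_injective _ h) 0
      · show D.φ x.out⁻¹ (D.φ x.out ![t, 0]) ∈ D.W
        rw [D.app_inv_self]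
        simp [mem_W]
    refine le_trans ?_ (Finset.card_le_card hsub)
    rw [Finset.card_image_of_injective _ fun a b e => congrFun (D.app_injective _ e) 0]
    refine le_trans ?_ Finset.pred_card_le_card_erase
    rw [Finset.card_erase_of_mem (Finset.mem_univ _), Finset.card_univ, ← Nat.card_eq_fintype_card,
      hq]
  have hle := Finset.sum_le_sum hL
  have hge := Finset.sum_le_sum hR
  rw [Finset.sum_const, smul_eq_mul, hScard] at hle
  rw [Finset.sum_const, smul_eq_mul, ← Set.ncard_eq_toFinset_card'] at hge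
  omega

theorem isSimple_range : IsSimpleGroup ↥D.ι.range ∧ Nat.card ↥D.ι.range = 60 := by
  have hc : Nat.card (SpecialLinearGroup (Fin 2) F) = 60 := by
    rw [GLOrder.card_SL_two, hq]
    norm_num
  have e := MonoidHom.ofInjective D.ι_injective
  refine ⟨?_, by rw [← Nat.card_congr e.toEquiv, hc]⟩
  haveI := Matrix.ProjectiveSpecialLinearGroup.rank_two_simple (F := F) (by omega)
  have e₂ : SpecialLinearGroup (Fin 2) F ≃* ProjectiveSpecialLinearGroup (Fin 2) F :=
    MulEquiv.ofBijective (QuotientGroup.mk' _) ((Nat.bijective_iff_surjective_and_card _).2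
      ⟨QuotientGroup.mk'_surjective _, by
        rw [GLOrder.card_PSL, hq, Fintype.card_fin, hc]; simp⟩)
  exact (e.symm.trans e₂).isSimpleGroup

/-- A conjugate of the image inside its normaliser equals it. -/
theorem normal_of_conj_le (hle : Nat.card G ≤ 2520)
    (h : ∀ g : G, D.ι.range.map (MulAut.conj g).toMonoidHom ≤
      Subgroup.normalizer (D.ι.range : Set G)) : D.ι.range.Normal := by
  obtain ⟨hs, hc⟩ := D.isSimple_range hq
  refine ⟨fun n hn g => ?_⟩
  set L' := D.ι.range.map (MulAut.conj g).toMonoidHom with hL'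
  have e := D.ι.range.equivMapOfInjective (MulAut.conj g).toMonoidHom (MulAut.conj g).injective
  haveI : IsSimpleGroup ↥L' := e.symm.isSimpleGroup
  have hc' : Nat.card ↥L' = 60 := by rw [← Nat.card_congr e.toEquiv, hc]
  haveI hnor : (D.ι.range.subgroupOf L').Normal := by
    refine ⟨fun a ha b => ?_⟩
    exact (Subgroup.mem_normalizer_iff.1 (h g b.2) _).1 ha
  rcases hnor.eq_bot_or_eq_top with hb | ht
  · exfalso
    have hd : Disjoint D.ι.range L' := Subgroup.subgroupOf_eq_bot.1 hb
    have := Nat.card_le_card_of_injective _ (Subgroup.mul_injective_of_disjoint hd)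
    rw [Nat.card_prod, hc, hc'] at this
    omega
  · exact Subgroup.subgroupOf_eq_top.1 ht ⟨n, hn, by simp⟩

theorem normal_of_core (hle : Nat.card G ≤ 2520)
    (h : D.ι.range ≤ (Subgroup.normalizer (D.ι.range : Set G)).normalCore) : D.ι.range.Normal := by
  refine D.normal_of_conj_le hq hle fun g => ?_
  refine le_trans ?_ (Subgroup.normalCore_le _)
  rintro _ ⟨n, hn, rfl⟩
  exact (Subgroup.normalCore_normal _).conj_mem _ (h hn) g

theorem core_cases :
    D.ι.range ≤ (Subgroup.normalizer (D.ι.range : Set G)).normalCore ∨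
      Disjoint D.ι.range (Subgroup.normalizer (D.ι.range : Set G)).normalCore := by
  obtain ⟨hs, -⟩ := D.isSimple_range hq
  haveI : ((Subgroup.normalizer (D.ι.range : Set G)).normalCore.subgroupOf D.ι.range).Normal :=
    inferInstance
  rcases this.eq_bot_or_eq_top with hb | ht
  · exact Or.inr (Subgroup.subgroupOf_eq_bot.1 hb).symm
  · exact Or.inl (Subgroup.subgroupOf_eq_top.1 ht)

theorem small_index (hle : Nat.card G ≤ 2520)
    (hm : (Subgroup.normalizer (D.ι.range : Set G)).index ≤ 3) : D.ι.range.Normal := by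
  set N := Subgroup.normalizer (D.ι.range : Set G) with hN
  rcases D.core_cases hq with h | h
  · exact D.normal_of_core hq hle h
  exfalso
  obtain ⟨-, hc⟩ := D.isSimple_range hq
  have hinj : Function.Injective ((MulAction.toPermHom G (G ⧸ N)).comp D.ι.range.subtype) := by
    rw [← MonoidHom.ker_eq_bot_iff, eq_bot_iff]
    intro x hx
    have hx' : (x : G) ∈ N.normalCore := by
      rw [Subgroup.normalCore_eq_ker]
      exact hx
    exact Subtype.ext (Subgroup.disjoint_def.1 h x.2 hx')
  have := Subgroup.card_dvd_of_injective _ hinj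
  rw [hc, Nat.card_perm, ← Subgroup.index_eq_card] at this
  have h1 : Nat.factorial N.index ≤ Nat.factorial 3 := Nat.factorial_le hm
  have h2 : 0 < Nat.factorial N.index := Nat.factorial_pos _
  have h3 := Nat.le_of_dvd h2 this
  simp [Nat.factorial] at h1
  omega

/-- No group of order `840` occurs. -/
theorem index_seven (hG : Nat.card G = 840)
    (hN : Nat.card ↥(Subgroup.normalizer (D.ι.range : Set G)) = 120) : D.ι.range.Normal := by
  classical
  set N := Subgroup.normalizer (D.ι.range : Set G) with hNd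
  rcases D.core_cases hq with h | h
  · exact D.normal_of_core hq (by omega) h
  exfalso
  obtain ⟨-, hc⟩ := D.isSimple_range hq
  set K := N.normalCore with hK
  have hK2 : Nat.card ↥K ≤ 2 := by
    have := Nat.card_le_card_of_injective
      (fun x : ↥D.ι.range × ↥K => (⟨(x.1 : G) * x.2, mul_mem (Subgroup.le_normalizer x.1.2)
        (N.normalCore_le x.2.2)⟩ : ↥N))
      fun a b e => Subgroup.mul_injective_of_disjoint h (congrArg Subtype.val e)
    rw [Nat.card_prod, hc, hN] at this
    omega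
  have hcomm : ∀ s, ∀ z ∈ K, D.ι s * z = z * D.ι s := by
    intro s z hz
    have h1 : D.ι s * z * (D.ι s)⁻¹ * z⁻¹ ∈ K :=
      mul_mem (N.normalCore_normal.conj_mem z hz _) (inv_mem hz)
    have h2 : D.ι s * z * (D.ι s)⁻¹ * z⁻¹ ∈ D.ι.range := by
      rw [show D.ι s * z * (D.ι s)⁻¹ * z⁻¹ = D.ι s * (z * (D.ι s)⁻¹ * z⁻¹) by group]
      exact mul_mem ⟨s, rfl⟩
        ((Subgroup.mem_normalizer_iff.1 (N.normalCore_le hz) _).1 (inv_mem ⟨s, rfl⟩))
    have h3 := Subgroup.disjoint_def.1 h h2 h1
    rwa [mul_inv_eq_one, mul_inv_eq_iff_eq_mul] at h3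
  have hbot : K = ⊥ := by
    rw [eq_bot_iff]
    intro z hz
    have hzz : z * z = 1 := by
      have h1 : (⟨z, hz⟩ : ↥K) ^ Nat.card ↥K = 1 := pow_card_eq_one'
      have hpos : 0 < Nat.card ↥K := Nat.card_pos
      interval_cases hn : Nat.card ↥K
      · have : z = 1 := by simpa using congrArg Subtype.val h1
        simp [this]
      · simpa [pow_two] using congrArg Subtype.val h1
    rw [Subgroup.mem_bot]
    refine D.ext_app fun y => ?_
    rw [D.app_one]
    by_cases hall : ∀ v, D.φ z v = v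
    · exact hall y
    push Not at hall
    obtain ⟨v, hv⟩ := hall
    set w := D.φ z v + v with hwd
    have hw0 : w ≠ 0 := fun h => hv (by
      rw [eq_neg_of_add_eq_zero_left h]; funext i; simp [CharTwo.neg_eq])
    have hzw : D.φ z w = w := by
      rw [hwd, map_add, ← D.app_mul, hzz, D.app_one, add_comm]
    by_cases hy : y = 0
    · simp [hy]
    obtain ⟨s, hs⟩ := NatSL2.exists_sl2_column hy
    obtain ⟨r, hr⟩ := NatSL2.exists_sl2_column hw0
    have hyw : y = D.φ (D.ι (s * r⁻¹)) w := by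
      rw [map_mul, D.app_mul, ← hr, ← D.act r, map_inv, D.app_inv_self, D.act, hs]
    rw [hyw, ← D.app_mul, ← hcomm _ z hz, D.app_mul, hzw]
  have hm : N.index = 7 := by
    have := N.card_mul_index
    rw [hN, hG] at this
    omega
  haveI := Fintype.ofFinite (G ⧸ N)
  let e7 := (Fintype.equivFinOfCardEq (α := G ⧸ N) (n := 7)
    (by rw [← Nat.card_eq_fintype_card, ← Subgroup.index_eq_card, hm])).permCongrHom
  have hinj : Function.Injective (e7.toMonoidHom.comp (MulAction.toPermHom G (G ⧸ N))) :=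
    e7.injective.comp (by rw [← MonoidHom.ker_eq_bot_iff, ← Subgroup.normalCore_eq_ker]; exact hbot)
  set H := (e7.toMonoidHom.comp (MulAction.toPermHom G (G ⧸ N))).range
  have hH : Nat.card ↥H = 840 := by
    rw [← hG]; exact (Nat.card_congr (MonoidHom.ofInjective hinj).toEquiv).symm
  have hS7 : Nat.card (Equiv.Perm (Fin 7)) = 5040 := by
    rw [Nat.card_perm, Nat.card_fin]; rfl
  have hidx : H.index = 6 := by
    have := H.card_mul_index
    rw [hH, hS7] at this
    omega
  set C := H.normalCore with hC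
  have hC7 : 7 ∣ Nat.card ↥C := by
    have h1 := Subgroup.card_subgroup_dvd_card (MulAction.toPermHom (Equiv.Perm (Fin 7))
      (Equiv.Perm (Fin 7) ⧸ H)).range
    rw [← Subgroup.index_ker, ← Subgroup.normalCore_eq_ker, Nat.card_perm,
      ← Subgroup.index_eq_card, hidx] at h1
    have h2 := C.card_mul_index
    rw [hS7] at h2
    have h3 : 7 ∣ Nat.card ↥C * C.index := h2.symm ▸ (by norm_num : 7 ∣ 5040)
    refine ((Nat.Prime.dvd_mul (by norm_num)).1 h3).resolve_right fun h4 => ?_
    have h5 := h4.trans h1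
    revert h5
    decide
  haveI : IsSimpleGroup ↥(alternatingGroup (Fin 7)) := alternatingGroup.isSimpleGroup (by simp)
  haveI : (C.subgroupOf (alternatingGroup (Fin 7))).Normal := inferInstance
  rcases this.eq_bot_or_eq_top with hb | ht
  · have hd := Subgroup.subgroupOf_eq_bot.1 hb
    have hi : Function.Injective ((Equiv.Perm.sign).comp C.subtype) := by
      rw [← MonoidHom.ker_eq_bot_iff, eq_bot_iff]
      intro x hx
      exact Subtype.ext (Subgroup.disjoint_def.1 hd x.2 (Equiv.Perm.mem_alternatingGroup.2 hx))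
    have := Nat.card_le_card_of_injective _ hi
    rw [Nat.card_eq_fintype_card (α := ℤˣ), Fintype.card_units_int] at this
    have := Nat.le_of_dvd Nat.card_pos hC7
    omega
  · have := Subgroup.card_le_of_le ((Subgroup.subgroupOf_eq_top.1 ht).trans H.normalCore_le)
    rw [nat_card_alternatingGroup, Nat.card_fin, hH] at this
    simp [Nat.factorial] at this

theorem normal_or_alt_seven (hI : ∀ g, g ∉ D.GW → (D.I g).ncard ≤ 2)
    (hex : ∃ g, g ∉ D.GW ∧ ∃ z ∈ D.I g, z ≠ 0) (ha : ∃ a ∈ (D.P : Subgroup G), a ∉ D.U) :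
    D.ι.range.Normal ∨ Nonempty (G ≃* ↥(alternatingGroup (Fin 7))) := by
  have hn := D.index_GW hq
  set r := (D.Lines ![1, 0]).ncard with hr
  have hr7 : r ≤ 7 := D.Lines_le hq hI
  have hr2 : 2 ≤ r := by
    obtain ⟨g, hg, z, hz, hz0⟩ := hex
    rw [hr, ← D.ncard_Lines hq hz0]
    have hsub : ({((1 : G) : G ⧸ D.GW), (g : G ⧸ D.GW)} : Set _) ⊆ D.Lines z := by
      rintro x (rfl | rfl) <;> rw [D.mem_Lines hq]
      · rw [inv_one, D.app_one]; exact hz.1
      · exact hz.2
    refine le_trans (le_of_eq (Set.ncard_pair ?_).symm) (Set.ncard_le_ncard hsub (Set.toFinite _))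
    intro e
    exact hg (by simpa using QuotientGroup.eq.1 e)
  have hG := D.card_G_dvd hq ha
  have hW := D.card_GW_dvd hq
  have hW24 := D.dvd_card_GW hq ha
  have hmul := D.GW.card_mul_index
  rw [hn] at hmul
  have hWG : Nat.card ↥D.GW ∣ 2520 := (Subgroup.card_subgroup_dvd_card _).trans hG
  have hW72 : Nat.card ↥D.GW ∣ 72 :=
    (Nat.dvd_gcd hW hWG).trans (by norm_num)
  have hGs : Nat.card G = 360 ∨ Nat.card G = 840 ∨ Nat.card G = 2520 := by
    have hle := Nat.le_of_dvd (by norm_num) hW72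
    obtain ⟨k, hk⟩ := hW24
    have hk3 : k ≤ 3 := by omega
    have hk0 : k ≠ 0 := by rintro rfl; simp [hk] at hW72
    rw [← hmul, hk] at hG ⊢
    rw [hk] at hW72
    interval_cases k <;> interval_cases r <;> revert hG hW72 <;> decide
  have hle : Nat.card G ≤ 2520 := by omega
  set N := Subgroup.normalizer (D.ι.range : Set G) with hNd
  have h8 : 8 ∣ Nat.card ↥N := D.card_P hq ha ▸ Subgroup.card_dvd_of_le D.P_le
  have h60 : 60 ∣ Nat.card ↥N :=
    (D.isSimple_range hq).2 ▸ Subgroup.card_dvd_of_le Subgroup.le_normalizer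
  have h120 : 120 ∣ Nat.card ↥N := by
    have e : Nat.lcm 8 60 = 120 := by decide
    exact e ▸ Nat.lcm_dvd h8 h60
  obtain ⟨j, hj⟩ := h120
  have hNm := N.card_mul_index
  rw [hj] at hNm
  rcases hGs with h | h | h
  · refine Or.inl (D.small_index hq hle ?_)
    rw [h] at hNm
    rw [← hNd]
    have : j * N.index = 3 := by linarith
    exact Nat.le_of_dvd (by norm_num) (Dvd.intro_left _ this)
  · rw [h] at hNm
    have h7 : j * N.index = 7 := by linarith
    rcases (Nat.prime_def.1 (by norm_num : Nat.Prime 7)).2 _ (Dvd.intro_left _ h7) with h1 | h1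
    · exact Or.inl (D.small_index hq hle (by rw [← hNd]; omega))
    · refine Or.inl (D.index_seven hq h ?_)
      rw [h1] at h7
      rw [← hNd, hj]
      omega
  · obtain ⟨f, hf⟩ := D.exists_toAlt hq
    exact Or.inr (alt_seven_of_card f hf h)

end Emb

end Cfsg.Agent.NatEmbedded
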